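import Cfsg.Agent.Lib.U35.Checks
import Cfsg.Agent.Lib.SUThreeGen.Main

/-!
# A subgroup of index fifty in `SU₃(5)`
-/

set_option autoImplicit false
set_option linter.style.haveILetI false

namespace Cfsg.Agent.U35

open Cfsg.Agent.AutPSU

instance instQFieldK25 : QField K25 5 := QField.of_card (by rw [card_K25]; norm_num)

/-- The group `SU₃(5)`. -/
abbrev G0 := ↥(Cfsg.SU 3 K25 5)

local notation "H" => Cfsg.hermForm 3 K25 5

theorem all_range {n : ℕ} {p : ℕ → Bool} (h : (List.range n).all p = true) {e : ℕ} (he : e < n) : p e = true :=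
  List.all_eq_true.1 h e (List.mem_range.2 he)

theorem all_range' {n m : ℕ} {p : ℕ → Bool} (h : (List.range' n m).all p = true) {e : ℕ} (h1 : n ≤ e)
    (h2 : e < n + m) : p e = true := List.all_eq_true.1 h e (List.mem_range'_1.2 ⟨h1, h2⟩)

theorem H_ev (u v : ℕ) : H (ev u) (ev v) = ofN (hermN u v) := by
  simp only [hermN, ofN_add, ofN_mul, ofN_sig]
  show ∑ i : Fin 3, _ = _
  rw [Fin.sum_univ_three]
  rfl

theorem qb_eq (x : K25) : qb (F := K25) (q := 5) x = x ^ 5 := qb_apply x

theorem isT_axis (j : Fin 3) : IsT 5 (ev (axis j)) (ofN 5) := by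
  have h := all_range check_axes j.isLt
  rw [Bool.and_eq_true, beq_iff_eq] at h
  refine ⟨by rw [H_ev, h.1, ofN_zero], ?_⟩
  rw [qb_eq]
  decide +kernel

/-- The three transvections. -/
noncomputable def gen (j : Fin 3) : G0 := tr (ev (axis j)) (ofN 5) (isT_axis j)

theorem app_gen (j : Fin 3) (u : ℕ) : app (gen j) (ev u) = ev (appT j u) := by
  rw [gen, tr_apply, H_ev, appT, ev_addN, ev_smulN, ofN_mul]

/-- The group they generate. -/
def Gam : Subgroup G0 := Subgroup.closure (Set.range gen)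

theorem gen_mem (j : Fin 3) : gen j ∈ Gam := Subgroup.subset_closure ⟨j, rfl⟩

theorem ofN_ne {s : ℕ} (h1 : s < 25) (h2 : s ≠ 0) : ofN s ≠ 0 := fun h =>
  h2 (ofN_lt h1 (by norm_num) (h.trans ofN_zero.symm))

/-- The listed isotropic points. -/
def isoV (i : ℕ) : Fin 3 → K25 := ev (isoL.getD i 0)

theorem iso_reach : ∀ i < 126, ∃ g ∈ Gam, ∃ c : K25, c ≠ 0 ∧ app g (isoV 0) = c • isoV i := by
  intro i
  induction i using Nat.strong_induction_on with
  | _ i ih =>
    intro hi
    rcases Nat.eq_zero_or_pos i with rfl | h0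
    · exact ⟨1, Gam.one_mem, 1, one_ne_zero, by rw [app_one, one_smul]⟩
    have h := all_range' check_parents h0 (by omega)
    simp only [Bool.and_eq_true, decide_eq_true_eq, bne_iff_ne, beq_iff_eq] at h
    obtain ⟨⟨⟨⟨h1, h2⟩, h3⟩, h4⟩, h5⟩ := h
    obtain ⟨g, hg, c, hc, e⟩ := ih _ h1 (by omega)
    refine ⟨gen ⟨_, h2⟩ * g, Gam.mul_mem (gen_mem _) hg, c * ofN (parL.getD i (0, 0, 0)).2.2,
      mul_ne_zero hc (ofN_ne h3 h4), ?_⟩
    rw [app_mul, e, app_smul, isoV, app_gen, Fin.val_mk, h5, ev_smulN, smul_smul]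
    rfl

theorem iso_list {y : Fin 3 → K25} (hy : y ≠ 0) (hyy : H y y = 0) :
    ∃ i < 126, ∃ c : K25, c ≠ 0 ∧ y = c • isoV i := by
  obtain ⟨n, hn, rfl⟩ := exists_code y
  have h : isoOk n = true := by
    rcases (show n < 3125 ∨ (3125 ≤ n ∧ n < 6250) ∨ (6250 ≤ n ∧ n < 9375) ∨ (9375 ≤ n ∧ n < 12500) ∨
      (12500 ≤ n ∧ n < 15625) by omega) with h | h | h | h | h
    · exact all_range' check_iso_0 (Nat.zero_le n) (by omega)
    · exact all_range' check_iso_1 h.1 (by omega)
    · exact all_range' check_iso_2 h.1 (by omega)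
    · exact all_range' check_iso_3 h.1 (by omega)
    · exact all_range' check_iso_4 h.1 (by omega)
  have hh : hermN n n = 0 := by
    have e : ofN (hermN n n) = ofN 0 := by rw [← H_ev, hyy, ofN_zero]
    exact ofN_lt (addK_lt _ _) (by norm_num) e
  rw [isoOk, hh] at h
  simp only [beq_self_eq_true, if_true, Bool.or_eq_true, Bool.and_eq_true, beq_iff_eq, bne_iff_ne,
    decide_eq_true_eq, List.contains_eq_mem] at h
  rcases h with h | ⟨⟨h1, h2⟩, h3⟩
  · exact absurd (by rw [h, ev_zero]) hy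
  obtain ⟨i, hi, he⟩ := List.getElem_of_mem h1
  have hlen : isoL.length = 126 := by decide +kernel
  refine ⟨i, hlen ▸ hi, (ofN (scale n))⁻¹, inv_ne_zero (ofN_ne h2 h3), ?_⟩
  rw [isoV, List.getD_eq_getElem _ _ hi, he, normN, ev_smulN, smul_smul, inv_mul_cancel₀ (ofN_ne h2 h3), one_smul]

theorem Gam_eq_top : Gam = ⊤ := by
  rw [eq_top_iff, ← FormsLib.closure_unitaryTransvection (F := K25) (q := 5) (by rw [card_K25]; norm_num) 3
    (by norm_num), Subgroup.closure_le]
  rintro A ⟨v, c, hvv, hA⟩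
  have happ : ∀ z : Fin 3 → K25, app A z = z + (c * H z v) • v := by
    intro z
    show ((A : Matrix.SpecialLinearGroup (Fin 3) K25) : Matrix (Fin 3) (Fin 3) K25).mulVec z = _
    rw [hA, Cfsg.unitaryTransvection, Matrix.add_mulVec, Matrix.one_mulVec, Matrix.smul_mulVec,
      Matrix.vecMulVec_mulVec]
    funext i
    simp only [Pi.add_apply, Pi.smul_apply, op_smul_eq_mul, smul_eq_mul, H_def, dotProduct]
    rw [Finset.sum_congr rfl fun j _ => mul_comm (v j ^ 5) (z j)]
    ring
  by_cases hv0 : v = 0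
  · have : A = 1 := su_ext fun z => by
      show app A z = app (1 : G0) z
      rw [happ, app_one, hv0]; simp
    rw [this]; exact Gam.one_mem
  have hc : c + qb (F := K25) (q := 5) c = 0 := by
    obtain ⟨z, hz⟩ := exists_H_eq_one (q := 5) hv0
    have hvz : H v z = 1 := by rw [← H_flip z v, hz, map_one]
    have h1 := app_H A z z
    rw [happ, hz] at h1
    simp [hvv, hz, hvz] at h1
    linear_combination h1
  obtain ⟨i, hi, b, hb, rfl⟩ := iso_list hv0 hvv
  obtain ⟨g, hg, a, ha, hga⟩ := iso_reach i hi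
  have h0 : isoV 0 = ev (axis (0 : Fin 3)) := by
    have h := check_frame
    simp only [Bool.and_eq_true, beq_iff_eq] at h
    rw [isoV, Fin.val_zero, ← h.1.2, ← h.1.1.2]
  have hv : b • isoV i = (b / a) • app g (ev (axis (0 : Fin 3))) := by
    rw [← h0, hga, smul_smul, div_mul_cancel₀ b ha]
  set d := (b / a) * qb (F := K25) (q := 5) (b / a) * c with hd
  have hd0 : d + qb (F := K25) (q := 5) d = 0 := by
    rw [hd, map_mul, map_mul, qb_qb]
    linear_combination (b / a) * qb (F := K25) (q := 5) (b / a) * hc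
  -- a skew scalar is a multiple of `√2` over the prime field
  obtain ⟨m, hm⟩ : ∃ m : Fin 5, d = (m : ℕ) * ofN 5 := by
    rw [qb_eq] at hd0
    revert hd0
    generalize d = x
    revert x
    decide +kernel
  have hpow : ∀ (k : ℕ) (z : Fin 3 → K25),
      app (gen 0 ^ k) z = z + ((k : K25) * ofN 5 * H z (ev (axis (0 : Fin 3)))) • ev (axis (0 : Fin 3)) := by
    intro k z
    induction k with
    | zero => simp [app_one]
    | succ k ih =>
      rw [pow_succ', app_mul, ih, gen, tr_apply, H_add_left, H_smul_left, (isT_axis 0).1, mul_zero, add_zero,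
        Nat.cast_succ]
      module
  have : A = g * gen 0 ^ (m : ℕ) * g⁻¹ := su_ext fun z => by
    show app A z = app _ z
    obtain ⟨u, rfl⟩ : ∃ u, app g u = z := ⟨_, app_inv' g z⟩
    rw [happ, app_mul, app_mul, app_inv, hpow, app_add, app_smul, hv, H_smul_right, app_H, ← hm, hd,
      smul_smul]
    congr 2
    ring
  rw [this]
  exact Gam.mul_mem (Gam.mul_mem hg (Gam.pow_mem (gen_mem 0) _)) (Gam.inv_mem hg)

theorem iso_trans {y : Fin 3 → K25} (hy : y ≠ 0) (hyy : H y y = 0) :
    ∃ (g : G0) (c : K25), c ≠ 0 ∧ y = c • app g (isoV 0) := by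
  obtain ⟨i, hi, b, hb, rfl⟩ := iso_list hy hyy
  obtain ⟨g, -, a, ha, hga⟩ := iso_reach i hi
  exact ⟨g, b / a, div_ne_zero hb ha, by rw [hga, smul_smul, div_mul_cancel₀ b ha]⟩

/-! ### The fifty sets -/

/-- The listed non-isotropic points. -/
def nonV (k : ℕ) : Fin 3 → K25 := ev (nonL.getD k 0)

/-- The union of the lines of a set of points. -/
def X (i : ℕ) : Set (Fin 3 → K25) :=
  {v | ∃ k < 525, (maskL.getD i 0).testBit k = true ∧ ∃ c : K25, c ≠ 0 ∧ v = c • nonV k}

/-- The permutation of the sets. -/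
def pi50 (j i : ℕ) : ℕ := (piL.getD j []).getD i 0

theorem gen_X (j : Fin 3) {i : ℕ} (hi : i < 50) : app (gen j) '' X i = X (pi50 j i) ∧ pi50 j i < 50 := by
  have h := all_range (all_range check_masks j.isLt) hi
  simp only [Bool.and_eq_true, decide_eq_true_eq, beq_iff_eq] at h
  have hp := all_range check_perm j.isLt
  rw [Bool.and_eq_true, beq_iff_eq] at hp
  have hk : ∀ k < 525, ((permL.getD j []).getD k (0, 0)).1 < 525 ∧ ∃ s : K25, s ≠ 0 ∧
      app (gen j) (nonV k) = s • nonV ((permL.getD j []).getD k (0, 0)).1 := by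
    intro k hk
    have h' := all_range hp.2 hk
    simp only [Bool.and_eq_true, decide_eq_true_eq, bne_iff_ne, beq_iff_eq] at h'
    obtain ⟨⟨⟨h1, h2⟩, h3⟩, h4⟩ := h'
    exact ⟨h1, _, ofN_ne h2 h3, by rw [nonV, app_gen, h4, ev_smulN]; rfl⟩
  refine ⟨?_, h.1⟩
  ext v
  simp only [X, pi50, Set.mem_image, Set.mem_setOf_eq, ← h.2, testBit_imgM, Nat.zero_add, hp.1]
  constructor
  · rintro ⟨u, ⟨k, hk', hb, c, hc, rfl⟩, rfl⟩
    obtain ⟨h1, s, hs, e⟩ := hk k hk'
    exact ⟨_, h1, ⟨k, hk', hb, rfl⟩, c * s, mul_ne_zero hc hs, by rw [app_smul, e, smul_smul]⟩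
  · rintro ⟨l, -, ⟨k, hk', hb, rfl⟩, c, hc, rfl⟩
    obtain ⟨-, s, hs, e⟩ := hk k hk'
    exact ⟨(c / s) • nonV k, ⟨k, hk', hb, c / s, div_ne_zero hc hs, rfl⟩,
      by rw [app_smul, e, smul_smul, div_mul_cancel₀ c hs]⟩

theorem nonV_unique {k l : ℕ} (hk : k < 525) (hl : l < 525) {c : K25} (hc : c ≠ 0) (h : nonV k = c • nonV l) :
    k = l := by
  have hn := check_non
  rw [Bool.and_eq_true, beq_iff_eq, List.all_eq_true] at hn
  have hkm : nonL.getD k 0 ∈ nonL := by
    rw [List.getD_eq_getElem _ _ (hn.1.symm ▸ hk)]; exact List.getElem_mem _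
  have hlm : nonL.getD l 0 ∈ nonL := by
    rw [List.getD_eq_getElem _ _ (hn.1.symm ▸ hl)]; exact List.getElem_mem _
  obtain ⟨he, hlt⟩ := ofN_enc c
  have hc0 : enc c ≠ 0 := fun e => hc (by rw [← he, e, ofN_zero])
  have h1 := List.all_eq_true.1 (all_range' check_norm (e := enc c) (by omega) (by omega)) _ hlm
  have h2 := List.all_eq_true.1 (all_range' check_norm (e := 1) le_rfl (by omega)) _ hkm
  rw [beq_iff_eq] at h1 h2
  have e : smulN (enc c) (nonL.getD l 0) = smulN 1 (nonL.getD k 0) := by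
    refine ev_inj ?_ ?_ ?_
    · have := mulK_lt (enc c) (c0 (nonL.getD l 0)); have := mulK_lt (enc c) (c1 (nonL.getD l 0))
      have := mulK_lt (enc c) (c2 (nonL.getD l 0))
      unfold smulN pack; omega
    · have := mulK_lt 1 (c0 (nonL.getD k 0)); have := mulK_lt 1 (c1 (nonL.getD k 0))
      have := mulK_lt 1 (c2 (nonL.getD k 0))
      unfold smulN pack; omega
    · rw [ev_smulN, ev_smulN, he, ofN_one, one_smul]; exact h.symm
  have e' : nonL.getD l 0 = nonL.getD k 0 := by rw [← h1, ← h2, e]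
  rcases Nat.lt_trichotomy k l with hlt | heq | hlt
  · have := all_range (all_range check_non_ne hl) hlt
    rw [bne_iff_ne] at this
    exact absurd e' this
  · exact heq
  · have := all_range (all_range check_non_ne hk) hlt
    rw [bne_iff_ne] at this
    exact absurd e'.symm this

theorem X_inj {i l : ℕ} (hi : i < 50) (hl : l < 50) (h : X i = X l) : i = l := by
  have hm := check_mask_lt
  rw [Bool.and_eq_true, beq_iff_eq, List.all_eq_true] at hm
  have hlt : ∀ i < 50, maskL.getD i 0 < 2 ^ 525 := fun i hi => by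
    rw [List.getD_eq_getElem _ _ (hm.1.symm ▸ hi)]
    simpa using hm.2 _ (List.getElem_mem _)
  have hbit : ∀ {i l : ℕ}, X i = X l → ∀ k < 525, (maskL.getD i 0).testBit k = true →
      (maskL.getD l 0).testBit k = true := by
    intro i l h k hk hb
    have : nonV k ∈ X l := h ▸ ⟨k, hk, hb, 1, one_ne_zero, (one_smul _ _).symm⟩
    obtain ⟨k', hk', hb', c, hc, e⟩ := this
    rwa [nonV_unique hk hk' hc e]
  have e : maskL.getD i 0 = maskL.getD l 0 := Nat.eq_of_testBit_eq fun k => by
    by_cases hk : k < 525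
    · exact Bool.eq_iff_iff.2 ⟨hbit h k hk, hbit h.symm k hk⟩
    · rw [Nat.testBit_lt_two_pow ((hlt i hi).trans_le (Nat.pow_le_pow_right two_pos (by omega))),
        Nat.testBit_lt_two_pow ((hlt l hl).trans_le (Nat.pow_le_pow_right two_pos (by omega)))]
  rcases Nat.lt_trichotomy i l with h' | h' | h'
  · have := all_range (all_range check_mask_ne hl) h'
    rw [bne_iff_ne] at this
    exact absurd e.symm this
  · exact h'
  · have := all_range (all_range check_mask_ne hi) h'
    rw [bne_iff_ne] at this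
    exact absurd e this

theorem image_mul (g h : G0) (S : Set (Fin 3 → K25)) : app (g * h) '' S = app g '' (app h '' S) := by
  rw [Set.image_image]
  exact Set.image_congr fun v _ => app_mul g h v

theorem image_one (S : Set (Fin 3 → K25)) : app (1 : G0) '' S = S := by
  simp [funext app_one]

theorem X_closed (g : G0) : ∀ i < 50, ∃ l < 50, app g '' X i = X l := by
  have hg : g ∈ Submonoid.closure (Set.range gen) := by
    rw [← Subgroup.closure_toSubmonoid_of_finite]
    show g ∈ Gam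
    rw [Gam_eq_top]; trivial
  induction hg using Submonoid.closure_induction with
  | mem x hx =>
    obtain ⟨j, rfl⟩ := hx
    exact fun i hi => ⟨_, (gen_X j hi).2, (gen_X j hi).1⟩
  | one => exact fun i hi => ⟨i, hi, image_one _⟩
  | mul a b _ _ iha ihb =>
    intro i hi
    obtain ⟨l, hl, e⟩ := ihb i hi
    obtain ⟨m, hm, e'⟩ := iha l hl
    exact ⟨m, hm, by rw [image_mul, e, e']⟩

theorem X_reach : ∀ i < 50, ∃ g : G0, app g '' X 0 = X i := by
  intro i
  induction i using Nat.strong_induction_on with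
  | _ i ih =>
    intro hi
    rcases Nat.eq_zero_or_pos i with rfl | h0
    · exact ⟨1, image_one _⟩
    have h := all_range' check_span h0 (by omega)
    simp only [Bool.and_eq_true, decide_eq_true_eq, beq_iff_eq] at h
    obtain ⟨⟨h1, h2⟩, h3⟩ := h
    obtain ⟨g, e⟩ := ih _ h1 (by omega)
    refine ⟨gen ⟨_, h2⟩ * g, ?_⟩
    rw [image_mul, e, (gen_X _ (by omega)).1]
    exact congrArg X h3

/-- The stabiliser of the first set. -/
def H50 : Subgroup G0 where
  carrier := {g | app g '' X 0 = X 0}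
  one_mem' := image_one _
  mul_mem' {a b} ha hb := by
    show app (a * b) '' X 0 = X 0
    rw [image_mul, hb, ha]
  inv_mem' {a} ha := by
    show app a⁻¹ '' X 0 = X 0
    conv_lhs => rw [← (show app a '' X 0 = X 0 from ha), ← image_mul, inv_mul_cancel, image_one]

theorem index_H50 : H50.index = 50 := by
  classical
  choose sec hsec using fun i : Fin 50 => X_reach i i.isLt
  rw [Subgroup.index_eq_card, ← Nat.card_fin 50]
  refine (Nat.card_congr (Equiv.ofBijective (fun i : Fin 50 => (sec i : G0 ⧸ H50)) ⟨?_, ?_⟩)).symm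
  · intro i l h
    have h' : app ((sec i)⁻¹ * sec l) '' X 0 = X 0 := QuotientGroup.eq.1 h
    have e := congrArg (app (sec i) '' ·) h'
    simp only [← image_mul, mul_inv_cancel_left] at e
    rw [hsec, hsec] at e
    exact (Fin.ext (X_inj l.isLt i.isLt e)).symm
  · intro x
    obtain ⟨g, rfl⟩ := QuotientGroup.mk_surjective x
    obtain ⟨l, hl, e⟩ := X_closed g 0 (by norm_num)
    refine ⟨⟨l, hl⟩, QuotientGroup.eq.2 ?_⟩
    show app ((sec ⟨l, hl⟩)⁻¹ * g) '' X 0 = X 0
    rw [image_mul, e, show X l = app (sec ⟨l, hl⟩) '' X 0 from (hsec ⟨l, hl⟩).symm, ← image_mul,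
      inv_mul_cancel, image_one]

theorem center_le_H50 : Subgroup.center G0 ≤ H50 := by
  intro z hz
  obtain ⟨c, hc⟩ := scalar_of_mem_center (by norm_num) hz
  have hc0 : c ≠ 0 := by
    rintro rfl
    have h : isoV 0 = 0 := by
      have := app_inv z (isoV 0)
      rw [hc, zero_smul, app_zero] at this
      exact this.symm
    have hi : isoL.getD 0 0 = 0 := ev_inj (by decide +kernel) (by norm_num) (by rw [ev_zero]; exact h)
    revert hi
    decide +kernel
  show app z '' X 0 = X 0
  ext v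
  constructor
  · rintro ⟨u, ⟨k, hk, hb, a, ha, rfl⟩, rfl⟩
    exact ⟨k, hk, hb, c * a, mul_ne_zero hc0 ha, by rw [hc, smul_smul]⟩
  · rintro ⟨k, hk, hb, a, ha, rfl⟩
    exact ⟨(a / c) • nonV k, ⟨k, hk, hb, a / c, div_ne_zero ha hc0, rfl⟩,
      by rw [hc, smul_smul, mul_div_cancel₀ a hc0]⟩

end Cfsg.Agent.U35
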