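import Cfsg.Agent.Lib.SUThreeGen.Main

/-!
# Small subgroups of the stabiliser of an isotropic point in `SU₃(q)`

A subgroup of the stabiliser of an isotropic point that contains no transvection centred at the point
has at most `q · (3 (q - 1))` or `q² - 1` elements.
-/

set_option autoImplicit false
set_option linter.unusedSectionVars false
set_option linter.style.haveILetI false

namespace Cfsg.Agent.U35

open Cfsg.Agent.AutPSU Cfsg.Agent.SUThreeGen

variable {F : Type*} [Field F] [Fintype F] {q : ℕ} [hQ : QField F q]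

local notation "σ" => qb (F := F) q
local notation "H" => Cfsg.hermForm 3 F q

variable (S : Frame F q)

/-- The eigenvalue at the point. -/
def aC (g : Cfsg.SU 3 F q) : F := H (app g S.e) S.f

/-- The coordinate of the image of `w` at the point. -/
def bC (g : Cfsg.SU 3 F q) : F := H (app g S.w) S.f

/-- `g` fixes the point. -/
def Fixes (g : Cfsg.SU 3 F q) : Prop := app g S.e = aC S g • S.e

theorem fixes_of_smul {g : Cfsg.SU 3 F q} {c : F} (h : app g S.e = c • S.e) : Fixes S g ∧ aC S g = c := by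
  have ha : aC S g = c := by rw [aC, h, H_smul_left, S.ef, mul_one]
  exact ⟨by rw [Fixes, ha, h], ha⟩

theorem vec_smul (c x y z : F) : c • vec S x y z = vec S (c * x) (c * y) (c * z) := by
  simp only [vec]; module

theorem e_eq : S.e = vec S 1 0 0 := by simp [vec]

theorem w_eq : S.w = vec S 0 1 0 := by simp [vec]

theorem f_eq : S.f = vec S 0 0 1 := by simp [vec]

theorem frame_det_ne : (Matrix.of fun i j => (![S.e, S.w, S.f] j) i).det ≠ 0 := by
  intro h0
  obtain ⟨v, hv0, hv⟩ := Matrix.exists_mulVec_eq_zero_iff.2 h0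
  have h : vec S (v 0) (v 1) (v 2) = 0 := by
    rw [← hv]
    funext i
    simp [vec, Matrix.mulVec, dotProduct, Fin.sum_univ_three, mul_comm]
  apply hv0
  funext i
  fin_cases i
  · have := H_vec_f S (v 0) (v 1) (v 2); rw [h, H_zero_left] at this; exact this.symm
  · have := H_vec_w S (v 0) (v 1) (v 2); rw [h, H_zero_left] at this; exact this.symm
  · have := H_vec_e S (v 0) (v 1) (v 2); rw [h, H_zero_left] at this; exact this.symm

/-- The shape of an element fixing the point. -/
theorem shape {g : Cfsg.SU 3 F q} (hg : Fixes S g) :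
    aC S g ≠ 0 ∧ app g S.w = vec S (bC S g) (σ (aC S g) / aC S g) 0 ∧
      ∃ γ τ : F, app g S.f = vec S γ τ (σ (aC S g))⁻¹ ∧
        τ * σ (σ (aC S g) / aC S g) + (σ (aC S g))⁻¹ * σ (bC S g) = 0 := by
  set a := aC S g with ha_def
  have hge : app g S.e = a • S.e := hg
  have ha : a ≠ 0 := by
    intro h0
    rw [h0, zero_smul] at hge
    have := app_H g S.e S.f
    rw [hge, H_zero_left, S.ef] at this
    exact zero_ne_one this
  have hσa : σ a ≠ 0 := fun h => ha ((map_eq_zero _).1 h)
  have hw0 : H (app g S.w) S.e = 0 := by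
    have h := app_H g S.w S.e
    rw [hge, H_smul_right, S.we] at h
    exact (mul_eq_zero.1 h).resolve_left hσa
  have hf0 : H (app g S.f) S.e = (σ a)⁻¹ := by
    have h := app_H g S.f S.e
    rw [hge, H_smul_right, S.fe] at h
    exact eq_inv_of_mul_eq_one_right h
  have hgw : app g S.w = vec S (bC S g) (H (app g S.w) S.w) 0 := by
    conv_lhs => rw [eq_vec S (app g S.w), hw0]
    rfl
  have hgf : app g S.f = vec S (H (app g S.f) S.f) (H (app g S.f) S.w) (σ a)⁻¹ := by
    conv_lhs => rw [eq_vec S (app g S.f), hf0]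
  set δ := H (app g S.w) S.w with hδ_def
  set γ := H (app g S.f) S.f with hγ_def
  set τ := H (app g S.f) S.w with hτ_def
  set M : Matrix (Fin 3) (Fin 3) F := Matrix.of fun i j => (![S.e, S.w, S.f] j) i with hM_def
  have hdet : a * δ * (σ a)⁻¹ = 1 := by
    set T : Matrix (Fin 3) (Fin 3) F := !![a, bC S g, γ; 0, δ, τ; 0, 0, (σ a)⁻¹] with hT
    have hcol : ∀ j, app g (![S.e, S.w, S.f] j) = vec S (T 0 j) (T 1 j) (T 2 j) := by
      intro j
      fin_cases j
      · simpa [hT, vec] using hge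
      · simpa [hT] using hgw
      · simpa [hT] using hgf
    have e : ((g : Matrix.SpecialLinearGroup (Fin 3) F) : Matrix (Fin 3) (Fin 3) F) * M = M * T := by
      ext i j
      have h := congrFun (hcol j) i
      simp only [vec, app, Matrix.mulVec, dotProduct, Pi.add_apply, Pi.smul_apply, smul_eq_mul] at h
      rw [Matrix.mul_apply, Matrix.mul_apply, Fin.sum_univ_three (f := fun k => M i k * T k j)]
      refine h.trans ?_
      simp only [hM_def, Matrix.of_apply, Matrix.cons_val_zero, Matrix.cons_val_one, Matrix.cons_val]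
      ring
    have e' := congrArg Matrix.det e
    rw [Matrix.det_mul, Matrix.det_mul, (g : Matrix.SpecialLinearGroup (Fin 3) F).2, one_mul] at e'
    have hT' : T.det = 1 := mul_left_cancel₀ (frame_det_ne S) (e'.symm.trans (mul_one _).symm)
    rw [← hT', hT, Matrix.det_fin_three]
    simp
  have hδ : δ = σ a / a := by
    field_simp at hdet ⊢
    linear_combination hdet
  refine ⟨ha, by rw [hgw, hδ], γ, τ, hgf, ?_⟩
  have h := app_H g S.f S.w
  rw [hgf, hgw, S.fw] at h
  simp only [vec, H_add_left, H_add_right, H_smul_left, H_smul_right, S.ee, S.ff, S.ef, S.fe, S.we, S.ew,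
    S.wf, S.fw, S.ww, map_zero] at h
  rw [← hδ]
  linear_combination h

theorem shape_one {g : Cfsg.SU 3 F q} (hg : Fixes S g) (ha : aC S g = 1) :
    app g S.e = S.e ∧ app g S.w = vec S (bC S g) 1 0 ∧
      ∃ γ : F, app g S.f = vec S γ (-σ (bC S g)) 1 := by
  obtain ⟨-, h2, γ, τ, h3, h4⟩ := shape S hg
  rw [Fixes, ha, one_smul] at hg
  simp only [ha, map_one, div_one, inv_one, mul_one, one_mul] at h2 h3 h4
  exact ⟨hg, h2, γ, by rw [h3, eq_neg_of_add_eq_zero_left h4]⟩

theorem app_vec (g : Cfsg.SU 3 F q) (x y z : F) :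
    app g (vec S x y z) = x • app g S.e + y • app g S.w + z • app g S.f := by
  rw [vec, app_add, app_add, app_smul, app_smul, app_smul]

/-- An element fixing the point with trivial coordinates is a transvection. -/
theorem eq_tr {g : Cfsg.SU 3 F q} (hg : Fixes S g) (ha : aC S g = 1) (hb : bC S g = 0) :
    ∃ (t : F) (h : IsT q S.e t), g = tr S.e t h := by
  obtain ⟨h1, h2, γ, h3⟩ := shape_one S hg ha
  rw [hb, map_zero, neg_zero] at h3
  rw [hb] at h2
  have h := app_H g S.f S.f
  rw [h3, S.ff] at h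
  simp only [vec, H_add_left, H_add_right, H_smul_left, H_smul_right, S.ee, S.ff, S.ef, S.fe, S.we, S.ew,
    S.wf, S.fw, S.ww, map_zero, map_one] at h
  have hT : IsT q S.e γ := ⟨S.ee, by linear_combination h⟩
  refine ⟨γ, hT, su_ext fun v => ?_⟩
  show app g v = app (tr S.e γ hT) v
  rw [eq_vec S v, tr_apply, app_vec, h1, h2, h3, H_vec_e]
  simp only [vec]
  module

theorem fixes_mul {g g' : Cfsg.SU 3 F q} (hg : Fixes S g) (hg' : Fixes S g') :
    Fixes S (g * g') ∧ aC S (g * g') = aC S g * aC S g' := by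
  refine fixes_of_smul S ?_
  rw [app_mul, hg', app_smul, hg, smul_smul, mul_comm]

/-- The bound on the subgroup. -/
theorem card_le (hF : Fintype.card F = q ^ 2) (K : Subgroup (Cfsg.SU 3 F q)) (hK : ∀ g ∈ K, Fixes S g)
    (hZ : ∀ (t : F) (h : IsT q S.e t), tr S.e t h ∈ K → t = 0) (m : ℕ) (hm : q ^ 2 - 1 ≤ m)
    (hm' : ∀ T : Finset F, (∀ a ∈ T, a ≠ 0 ∧ (σ a) ^ 3 = a ^ 3) → T.card * q ≤ m) :
    Nat.card K ≤ m := by
  classical
  let χ : ↥K →* Fˣ := MonoidHom.mk' (fun g => Units.mk0 (aC S g.1) (shape S (hK _ g.2)).1)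
    (fun g g' => Units.ext (fixes_mul S (hK _ g.2) (hK _ g'.2)).2)
  have hχ : ∀ g : ↥K, (χ g : F) = aC S g.1 := fun g => rfl
  have hker : ∀ g ∈ χ.ker, aC S (g : ↥K).1 = 1 := fun g hg => by
    rw [← hχ, MonoidHom.mem_ker.1 hg, Units.val_one]
  -- the coordinate is additive and injective
  have hbmul : ∀ g ∈ χ.ker, ∀ g' ∈ χ.ker, bC S ((g * g' : ↥K) : Cfsg.SU 3 F q) = bC S g.1 + bC S g'.1 := by
    intro g hg g' hg'
    obtain ⟨h1, h2, -⟩ := shape_one S (hK _ g.2) (hker g hg)
    obtain ⟨-, h2', -⟩ := shape_one S (hK _ g'.2) (hker g' hg')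
    rw [bC, Subgroup.coe_mul, app_mul, h2', app_vec, h1, h2]
    simp only [vec, H_add_left, H_smul_left, S.ef, S.wf, S.ff]
    ring
  have hb0 : ∀ g ∈ χ.ker, bC S (g : ↥K).1 = 0 → g = 1 := by
    intro g hg hb
    obtain ⟨t, h, e⟩ := eq_tr S (hK _ g.2) (hker g hg) hb
    have ht := hZ t h (e ▸ g.2)
    subst ht
    exact Subtype.ext (e.trans (tr_zero h))
  let β : ↥χ.ker →* Multiplicative F := MonoidHom.mk' (fun g => Multiplicative.ofAdd (bC S g.1.1))
    (fun g g' => by
      show Multiplicative.ofAdd _ = Multiplicative.ofAdd _ * Multiplicative.ofAdd _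
      rw [← ofAdd_add]; exact congrArg _ (hbmul _ g.2 _ g'.2))
  have hβ : Function.Injective β := by
    rw [injective_iff_map_eq_one]
    intro g hg
    exact Subtype.ext (hb0 _ g.2 (Multiplicative.ofAdd.injective hg))
  -- the kernel is commutative
  have hcomm : ∀ g g' : ↥χ.ker, σ (bC S g.1.1) * bC S g'.1.1 = σ (bC S g'.1.1) * bC S g.1.1 := by
    intro g g'
    have e : g * g' = g' * g := hβ (by rw [map_mul, map_mul, mul_comm])
    obtain ⟨h1, h2, γ, h3⟩ := shape_one S (hK _ g.1.2) (hker g.1 g.2)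
    obtain ⟨h1', h2', γ', h3'⟩ := shape_one S (hK _ g'.1.2) (hker g'.1 g'.2)
    have e' := congrArg (fun x : ↥χ.ker => H (app (x.1.1) S.f) S.f) e
    simp only [Subgroup.coe_mul, app_mul] at e'
    rw [h3', h3, app_vec, app_vec, h1, h2, h3, h1', h2', h3'] at e'
    simp only [vec, H_add_left, H_smul_left, S.ef, S.wf, S.ff] at e'
    linear_combination e'
  have hcard : Nat.card K = Nat.card χ.range * Nat.card χ.ker := by
    rw [Subgroup.card_eq_card_quotient_mul_card_subgroup χ.ker,
      Nat.card_congr (QuotientGroup.quotientKerEquivRange χ).toEquiv]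
  have hun : Nat.card χ.range ≤ q ^ 2 - 1 := by
    refine (Subgroup.card_le_card_group _).trans (le_of_eq ?_)
    rw [Nat.card_units, Nat.card_eq_fintype_card, hF]
  rw [hcard]
  by_cases hb : χ.ker = ⊥
  · rw [hb, Subgroup.card_bot, mul_one]
    exact hun.trans hm
  obtain ⟨⟨g0, hg0⟩, hne⟩ : ∃ g : ↥χ.ker, g ≠ 1 := by
    by_contra h
    push Not at h
    exact hb (Subgroup.eq_bot_iff_forall _ |>.2 fun x hx => congrArg Subtype.val (h ⟨x, hx⟩))
  set b0 := bC S g0.1 with hb0_def
  have hb00 : b0 ≠ 0 := fun h => hne (Subtype.ext (hb0 _ hg0 h))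
  have hσb : σ b0 ≠ 0 := fun h => hb00 ((map_eq_zero _).1 h)
  -- the kernel is inside a line
  have hk : Nat.card χ.ker ≤ q := by
    have hrat : ∀ g : ↥χ.ker, (bC S g.1.1 / b0) ^ q = bC S g.1.1 / b0 := fun g => by
      rw [← qb_apply (q := q), map_div₀, div_eq_div_iff hσb hb00]
      linear_combination hcomm g ⟨g0, hg0⟩
    let R : Finset F := Finset.univ.filter fun x => x ^ q = x
    have hR : R.card ≤ q := by
      have hq := two_le_q (F := F) (q := q)
      have h0 : (Polynomial.X ^ q - Polynomial.X : Polynomial F) ≠ 0 := FiniteField.X_pow_card_sub_X_ne_zero F hq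
      have hsub : R ⊆ (Polynomial.X ^ q - Polynomial.X : Polynomial F).roots.toFinset := by
        intro x hx
        rw [Finset.mem_filter] at hx
        rw [Multiset.mem_toFinset, Polynomial.mem_roots h0]
        simp [hx.2]
      refine (Finset.card_le_card hsub).trans ((Multiset.toFinset_card_le _).trans ((Polynomial.card_roots' _).trans ?_))
      rw [FiniteField.X_pow_card_sub_X_natDegree_eq F hq]
    refine le_trans ?_ hR
    rw [Nat.card_eq_fintype_card, ← Fintype.card_coe]
    refine Fintype.card_le_of_injective (fun g => ⟨bC S g.1.1 / b0, Finset.mem_filter.2 ⟨Finset.mem_univ _, hrat g⟩⟩)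
      fun g g' h => hβ ?_
    have h' : bC S g.1.1 / b0 = bC S g'.1.1 / b0 := congrArg Subtype.val h
    show Multiplicative.ofAdd _ = Multiplicative.ofAdd _
    rw [div_left_inj' hb00] at h'
    rw [h']
  -- the image preserves the line
  have him : ∀ u ∈ χ.range, (u : F) ≠ 0 ∧ σ (u : F) ^ 3 = (u : F) ^ 3 := by
    rintro _ ⟨k, rfl⟩
    refine ⟨Units.ne_zero _, ?_⟩
    rw [hχ]
    have hs' : k * g0 * k⁻¹ ∈ χ.ker := (MonoidHom.normal_ker χ).conj_mem _ hg0 k
    obtain ⟨ha, hkw, -⟩ := shape S (hK _ k.2)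
    obtain ⟨h1, h2, -⟩ := shape_one S (hK _ g0.2) (hker g0 hg0)
    obtain ⟨h1', h2', -⟩ := shape_one S (hK _ (k * g0 * k⁻¹).2) (hker _ hs')
    have e : (k.1 * g0.1) = ((k * g0 * k⁻¹ : ↥K) : Cfsg.SU 3 F q) * k.1 := by
      simp [mul_assoc]
    have e' := congrArg (fun x => H (app x S.w) S.f) e
    simp only [app_mul] at e'
    rw [h2, hkw, app_vec, app_vec, h1', h2', hkw, (show app k.1 S.e = aC S k.1 • S.e from hK _ k.2)] at e'
    simp only [vec, H_add_left, H_smul_left, S.ef, S.wf, S.ff] at e'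
    set a := aC S k.1
    set b' := bC S (k * g0 * k⁻¹ : ↥K).1
    have hc := hcomm ⟨g0, hg0⟩ ⟨_, hs'⟩
    change σ b0 * b' = σ b' * b0 at hc
    have hσa : σ a ≠ 0 := fun h => ha ((map_eq_zero _).1 h)
    have hb' : b' = b0 * a ^ 2 / σ a := by
      field_simp at e' ⊢
      linear_combination -e'
    rw [hb', map_div₀, map_mul, map_pow, qb_qb] at hc
    field_simp at hc
    linear_combination -hc
  have hr : Nat.card χ.range * q ≤ m := by
    haveI : Fintype χ.range := Fintype.ofFinite _
    have hT := hm' ((Finset.univ : Finset χ.range).image fun u : ↥χ.range => ((u.1 : Fˣ) : F)) fun a ha => by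
      obtain ⟨u, -, rfl⟩ := Finset.mem_image.1 ha
      exact him _ u.2
    have hinj : Function.Injective fun u : ↥χ.range => ((u.1 : Fˣ) : F) := fun u u' h => Subtype.ext (Units.ext h)
    rwa [Finset.card_image_of_injective _ hinj, Finset.card_univ,
      ← Nat.card_eq_fintype_card] at hT
  exact (Nat.mul_le_mul_left _ hk).trans hr

end Cfsg.Agent.U35
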