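import Cfsg.Agent.Lib.U35.Stab
import Cfsg.Agent.Lib.U35.Lower
import Cfsg.Agent.Lib.LinearGroups.UnitaryOrder
import Cfsg.Agent.Lib.U34.Main

/-!
# The least index of a proper subgroup of `PSU₃(5)`
-/

set_option autoImplicit false
set_option linter.style.haveILetI false

namespace Cfsg.Agent.U35

open Cfsg.Agent.AutPSU

local notation "H" => Cfsg.hermForm 3 K25 5

theorem card_G : Nat.card G0 = 378000 := by
  have h1 := UnitaryOrder.card_SU (F := K25) (q := 5) (by rw [card_K25]; norm_num) 3 (by norm_num)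
  rw [UnitaryOrder.card_GU (by rw [card_K25]; norm_num)] at h1
  simp [Finset.prod_range_succ] at h1
  norm_num at h1
  have e : Nat.card ↥(Cfsg.SU 3 K25 5) = 378000 := by omega
  exact e

/-- The adapted frame at the first isotropic point. -/
noncomputable def frame : SUThreeGen.Frame K25 5 :=
  have h := check_frame
  have hs : ∀ u v : ℕ, ∀ r : ℕ, (hermN u v == r) = true → H (ev u) (ev v) = ofN r := fun u v r h => by
    rw [H_ev, beq_iff_eq.1 h]
  { e := ev (frameL.getD 0 0)
    w := ev (frameL.getD 1 0)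
    f := ev (frameL.getD 2 0)
    ee := by simp only [Bool.and_eq_true] at h; exact hs _ _ 0 (by tauto)
    ff := by simp only [Bool.and_eq_true] at h; exact hs _ _ 0 (by tauto)
    ef := by simp only [Bool.and_eq_true] at h; exact hs _ _ 1 (by tauto)
    fe := by simp only [Bool.and_eq_true] at h; exact hs _ _ 1 (by tauto)
    we := by simp only [Bool.and_eq_true] at h; exact hs _ _ 0 (by tauto)
    ew := by simp only [Bool.and_eq_true] at h; exact hs _ _ 0 (by tauto)
    wf := by simp only [Bool.and_eq_true] at h; exact hs _ _ 0 (by tauto)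
    fw := by simp only [Bool.and_eq_true] at h; exact hs _ _ 0 (by tauto)
    ww := by simp only [Bool.and_eq_true] at h; exact hs _ _ 1 (by tauto) }

theorem frame_e : frame.e = isoV 0 := by
  have h := check_frame
  simp only [Bool.and_eq_true, beq_iff_eq] at h
  exact congrArg ev h.1.2

/-- The stabiliser of the first isotropic point. -/
def N0 : Subgroup G0 where
  carrier := {g | ∃ c : K25, app g (isoV 0) = c • isoV 0}
  one_mem' := ⟨1, by rw [app_one, one_smul]⟩
  mul_mem' {a b} := by
    rintro ⟨c, hc⟩ ⟨d, hd⟩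
    exact ⟨d * c, by rw [app_mul, hd, app_smul, hc, smul_smul]⟩
  inv_mem' {a} := by
    rintro ⟨c, hc⟩
    refine ⟨c⁻¹, ?_⟩
    have e := app_inv a (isoV 0)
    rw [hc, app_smul] at e
    by_cases h0 : c = 0
    · rw [h0, zero_smul] at e
      rw [← e, app_zero, smul_zero]
    · conv_rhs => rw [← e]
      rw [smul_smul, inv_mul_cancel₀ h0, one_smul]

theorem isoV_ne : isoV 0 ≠ 0 := by
  intro h
  have hi : isoL.getD 0 0 = 0 := ev_inj (by decide +kernel) (by norm_num) (by rw [ev_zero]; exact h)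
  revert hi
  decide +kernel

theorem isoV_iso : H (isoV 0) (isoV 0) = 0 := by rw [← frame_e]; exact frame.ee

theorem card_N0 : 3000 ≤ Nat.card N0 := by
  classical
  have hi : ∀ i : Fin 126, ∃ g : G0, ∃ c : K25, c ≠ 0 ∧ app g (isoV 0) = c • isoV i := fun i => by
    obtain ⟨g, -, h⟩ := iso_reach i i.isLt
    exact ⟨g, h⟩
  choose g c hc hg using hi
  have hidx : N0.index ≤ 126 := by
    rw [Subgroup.index_eq_card, ← Nat.card_fin 126]
    refine Nat.card_le_card_of_surjective (fun i => (g i : G0 ⧸ N0)) fun x => ?_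
    obtain ⟨x, rfl⟩ := QuotientGroup.mk_surjective x
    obtain ⟨i, hi, b, hb, e⟩ := iso_list (y := app x (isoV 0))
      (fun h => isoV_ne (app_injective x (h.trans (app_zero x).symm))) (by rw [app_H]; exact isoV_iso)
    refine ⟨⟨i, hi⟩, QuotientGroup.eq.2 ⟨b / c ⟨i, hi⟩, ?_⟩⟩
    rw [app_mul, e, show isoV i = (c ⟨i, hi⟩)⁻¹ • app (g ⟨i, hi⟩) (isoV 0) by
      rw [hg, smul_smul, inv_mul_cancel₀ (hc _), one_smul], app_smul, app_smul, app_inv, smul_smul,
      div_eq_mul_inv]
  have h := N0.card_mul_index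
  rw [card_G] at h
  have := Nat.mul_le_mul_left (Nat.card N0) hidx
  omega

theorem skew_mult : ∀ t s : K25, t ≠ 0 → t + t ^ 5 = 0 → s + s ^ 5 = 0 → ∃ m : Fin 5, s = ofN (m : ℕ) * t := by
  decide +kernel

theorem tr_pow {x : Fin 3 → K25} {t : K25} (h : IsT 5 x t) :
    ∀ (m : ℕ) (v : Fin 3 → K25), app (tr x t h ^ m) v = v + ((m : K25) * t * H v x) • x := by
  intro m v
  induction m with
  | zero => simp [app_one]
  | succ k ih =>
    rw [pow_succ', app_mul, ih, tr_apply, H_add_left, H_smul_left, h.1, mul_zero, add_zero, Nat.cast_succ]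
    module

theorem natCast_eq : ∀ m : Fin 5, ((m : ℕ) : K25) = ofN (m : ℕ) := by decide +kernel

theorem tr_mem {K : Subgroup G0} {x : Fin 3 → K25} {t s : K25} (h : IsT 5 x t) (h' : IsT 5 x s)
    (ht : t ≠ 0) (hK : tr x t h ∈ K) : tr x s h' ∈ K := by
  have h2 := h.2
  have h2' := h'.2
  rw [qb_eq] at h2 h2'
  obtain ⟨m, hm⟩ := skew_mult t s ht h2 h2'
  have e : tr x s h' = tr x t h ^ (m : ℕ) := su_ext fun v => by
    show app (tr x s h') v = app _ v
    rw [tr_pow, tr_apply, natCast_eq, hm]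
  rw [e]
  exact K.pow_mem hK _

theorem card_stab_pow : (Finset.univ.filter fun a : K25 => a ≠ 0 ∧ (a ^ 5) ^ 3 = a ^ 3).card = 12 := by
  decide +kernel

theorem tr_smul_conj {F : Type*} [Field F] {q : ℕ} [QField F q] {g : Cfsg.SU 3 F q} {x y : Fin 3 → F} {c s : F}
    (h : IsT q y s) (h' : IsT q x (c * qb (F := F) (q := q) c * s)) (e : y = c • app g x) :
    tr y s h = g * tr x _ h' * g⁻¹ := su_ext fun z => by
  show app (tr y s h) z = app (g * tr x _ h' * g⁻¹) z
  subst e
  rw [tr_conj, tr_apply, tr_apply, H_smul_right, smul_smul]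
  congr 2
  ring

theorem index_ge {L : Subgroup G0} (hL : L ≠ ⊤) : 50 ≤ L.index := by
  classical
  obtain ⟨x, t, h, hx⟩ : ∃ (x : G0) (t : K25) (h : IsT 5 (isoV 0) t), x⁻¹ * tr (isoV 0) t h * x ∉ L := by
    by_contra hall
    push Not at hall
    have hcore : ∀ (t : K25) (h : IsT 5 (isoV 0) t) (g : G0), g * tr (isoV 0) t h * g⁻¹ ∈ L := fun t h g => by
      have := hall g⁻¹ t h
      rwa [inv_inv] at this
    apply hL
    rw [eq_top_iff, ← Gam_eq_top, Gam, Subgroup.closure_le]
    rintro _ ⟨j, rfl⟩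
    by_cases h0 : ev (axis j) = 0
    · have : gen j = 1 := su_ext fun z => by
        show app (gen j) z = app (1 : G0) z
        rw [gen, tr_apply, app_one, h0]; simp
      rw [this]; exact L.one_mem
    obtain ⟨g, c, hc, e⟩ := iso_trans h0 (isT_axis j).1
    have hT : IsT 5 (isoV 0) (c * qb (F := K25) (q := 5) c * ofN 5) := ⟨isoV_iso, by
      have := (isT_axis j).2
      rw [map_mul, map_mul, qb_qb]
      linear_combination (c * qb (F := K25) (q := 5) c) * this⟩
    have : gen j = g * tr (isoV 0) _ hT * g⁻¹ := tr_smul_conj (isT_axis j) hT e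
    rw [this]
    exact hcore _ hT g
  set L' := L.map (MulAut.conj x).toMonoidHom with hL'
  have hidx : L'.index = L.index := Subgroup.index_map_equiv L (MulAut.conj x)
  have hxL : tr (isoV 0) t h ∉ L' := by
    rintro ⟨y, hy, e⟩
    refine hx ?_
    rw [← e]
    simpa [mul_assoc] using hy
  set K := N0 ⊓ L'
  have hZ : ∀ (s : K25) (hs : IsT 5 frame.e s), tr frame.e s hs ∈ K → s = 0 := by
    intro s hs hsK
    by_contra hs0
    have hs' : IsT 5 (isoV 0) s := frame_e ▸ hs
    have e : tr frame.e s hs = tr (isoV 0) s hs' := tr_congr frame_e rfl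
    exact hxL (tr_mem hs' h hs0 ((Subgroup.mem_inf.1 (e ▸ hsK)).2))
  have hK : ∀ g ∈ K, Fixes frame g := by
    intro g hg
    obtain ⟨c, hc⟩ := (Subgroup.mem_inf.1 hg).1
    exact (fixes_of_smul frame (c := c) (by rw [frame_e]; exact hc)).1
  have h60 : Nat.card K ≤ 60 := by
    refine card_le frame (by rw [card_K25]; norm_num) K hK hZ 60 (by norm_num) fun T hT => ?_
    have : T.card ≤ 12 := card_stab_pow ▸ Finset.card_le_card fun a ha => by
      have h' := hT a ha
      rw [qb_eq] at h'
      exact Finset.mem_filter.2 ⟨Finset.mem_univ _, h'⟩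
    omega
  have hrel : Nat.card N0 ≤ L'.index * Nat.card K := by
    have h1 : L'.relIndex N0 ≤ L'.index := by rw [← Subgroup.relIndex_top_right]; exact Subgroup.relIndex_le_of_le_right le_top (by rw [Subgroup.relIndex_top_right]; exact Subgroup.index_ne_zero_of_finite)
    have h2 : Nat.card K * L'.relIndex N0 = Nat.card N0 := by
      have e : Nat.card K = Nat.card (L'.subgroupOf N0) := Nat.card_congr
        { toFun := fun g => ⟨⟨g.1, (Subgroup.mem_inf.1 g.2).1⟩, (Subgroup.mem_inf.1 g.2).2⟩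
          invFun := fun g => ⟨g.1.1, Subgroup.mem_inf.2 ⟨g.1.2, g.2⟩⟩
          left_inv := fun _ => rfl
          right_inv := fun _ => rfl }
      rw [e]
      exact Subgroup.card_mul_index _
    rw [← h2, mul_comm]
    exact Nat.mul_le_mul_right _ h1
  have := card_N0
  rw [hidx] at hrel
  have := Nat.mul_le_mul_left L.index h60
  omega

theorem main {F : Type*} [Field F] [Fintype F] (hF : Fintype.card F = 25) :
    (∀ L : Subgroup (Cfsg.PSU 3 F 5), L ≠ ⊤ → 50 ≤ L.index) ∧ (∃ L : Subgroup (Cfsg.PSU 3 F 5), L.index = 50) := by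
  classical
  obtain ⟨e⟩ := U34.su_congr (FiniteField.ringEquivOfCardEq (K := K25) (K' := F) (by rw [hF, card_K25])) 3 5
  let π : G0 →* Cfsg.PSU 3 F 5 := (QuotientGroup.mk' _).comp e.toMonoidHom
  have hπ : Function.Surjective π := (QuotientGroup.mk'_surjective _).comp e.surjective
  have hker : π.ker ≤ Subgroup.center G0 := fun g hg => by
    have hg' : e g ∈ Subgroup.center ↥(Cfsg.SU 3 F 5) := (QuotientGroup.eq_one_iff _).1 hg
    rw [Subgroup.mem_center_iff] at hg' ⊢
    intro y
    apply e.injective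
    rw [map_mul, map_mul]
    exact hg' (e y)
  refine ⟨fun L hL => ?_, ⟨H50.map π, ?_⟩⟩
  · rw [← L.index_comap_of_surjective hπ]
    refine index_ge fun h => hL (Subgroup.comap_injective hπ ?_)
    rw [h, Subgroup.comap_top]
  · rw [Subgroup.index_map_eq H50 hπ (hker.trans center_le_H50), index_H50]

end Cfsg.Agent.U35
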