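import Cfsg.Agent.Lib.U35.Ops

/-!
# Checks on the tables
-/

set_option autoImplicit false
set_option maxRecDepth 20000

namespace Cfsg.Agent.U35

theorem check_axes : ((List.range 3).all fun j => hermN (axis j) (axis j) == 0 && axis j < 15625) = true := by
  decide +kernel

theorem check_frame : (let e := frameL.getD 0 0; let w := frameL.getD 1 0; let f := frameL.getD 2 0
    hermN e e == 0 && hermN f f == 0 && hermN e f == 1 && hermN f e == 1 && hermN w e == 0 && hermN e w == 0 &&
      hermN w f == 0 && hermN f w == 0 && hermN w w == 1 && e == axis 0 && e == isoL.getD 0 0 && e != 0) = true := by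
  decide +kernel

theorem check_parents : ((List.range' 1 125).all fun i =>
    let p := parL.getD i (0, 0, 0)
    p.1 < i && p.2.1 < 3 && p.2.2 < 25 && p.2.2 != 0 &&
      appT p.2.1 (isoL.getD p.1 0) == smulN p.2.2 (isoL.getD i 0)) = true := by
  decide +kernel

/-- The test that an isotropic code is a multiple of a listed one. -/
def isoOk (n : ℕ) : Bool :=
  if hermN n n == 0 then (n == 0 || (isoL.contains (normN n) && scale n < 25 && scale n != 0)) else true

theorem check_iso_0 : ((List.range' 0 3125).all isoOk) = true := by decide +kernel
theorem check_iso_1 : ((List.range' 3125 3125).all isoOk) = true := by decide +kernel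
theorem check_iso_2 : ((List.range' 6250 3125).all isoOk) = true := by decide +kernel
theorem check_iso_3 : ((List.range' 9375 3125).all isoOk) = true := by decide +kernel
theorem check_iso_4 : ((List.range' 12500 3125).all isoOk) = true := by decide +kernel

theorem check_perm : ((List.range 3).all fun j => (permL.getD j []).length == 525 && (List.range 525).all fun k =>
    let p := (permL.getD j []).getD k (0, 0)
    p.1 < 525 && p.2 < 25 && p.2 != 0 && appT j (nonL.getD k 0) == smulN p.2 (nonL.getD p.1 0)) = true := by
  decide +kernel

theorem check_masks : ((List.range 3).all fun j => (List.range 50).all fun i =>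
    (piL.getD j []).getD i 0 < 50 &&
      imgM (maskL.getD i 0) 0 (permL.getD j []) == maskL.getD ((piL.getD j []).getD i 0) 0) = true := by
  decide +kernel

theorem check_span : ((List.range' 1 49).all fun i =>
    let p := spanL.getD i (0, 0)
    p.1 < i && p.2 < 3 && (piL.getD p.2 []).getD p.1 0 == i) = true := by
  decide +kernel

theorem check_mask_lt : (maskL.length == 50 && maskL.all (· < 2 ^ 525)) = true := by decide +kernel

theorem check_mask_ne : ((List.range 50).all fun i => (List.range i).all fun l =>
    maskL.getD i 0 != maskL.getD l 0) = true := by decide +kernel

theorem check_norm : ((List.range' 1 24).all fun s => nonL.all fun v =>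
    normN (smulN s v) == v) = true := by decide +kernel

theorem check_non : (nonL.length == 525 && nonL.all (· < 15625)) = true := by decide +kernel

theorem check_non_ne : ((List.range 525).all fun k => (List.range k).all fun l =>
    nonL.getD k 0 != nonL.getD l 0) = true := by decide +kernel

end Cfsg.Agent.U35
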