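import Mathlib

/-!
# A computable field with twenty-five elements
-/

set_option autoImplicit false

namespace Cfsg.Agent.U35

/-- Pairs over five elements, `a + b√2`. -/
@[ext]
structure K25 where
  a : ZMod 5
  b : ZMod 5
deriving DecidableEq

/-- The element of a pattern. -/
def ofN (n : ℕ) : K25 := ⟨(n : ZMod 5), ((n / 5 : ℕ) : ZMod 5)⟩

/-- Sum of two patterns. -/
def addK (m n : ℕ) : ℕ := (m + n) % 5 + 5 * ((m / 5 + n / 5) % 5)

/-- Product of two patterns. -/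
def mulK (m n : ℕ) : ℕ :=
  (m * n + 2 * (m / 5) * (n / 5)) % 5 + 5 * ((m * (n / 5) + m / 5 * n) % 5)

/-- Conjugate of a pattern. -/
def sigK (n : ℕ) : ℕ := n % 5 + 5 * ((4 * (n / 5)) % 5)

instance : Fintype K25 := Fintype.ofEquiv (ZMod 5 × ZMod 5)
  ⟨fun p => ⟨p.1, p.2⟩, fun x => (x.a, x.b), fun _ => rfl, fun _ => rfl⟩

instance : Zero K25 := ⟨⟨0, 0⟩⟩
instance : One K25 := ⟨⟨1, 0⟩⟩
instance : Add K25 := ⟨fun x y => ⟨x.a + y.a, x.b + y.b⟩⟩
instance : Mul K25 := ⟨fun x y => ⟨x.a * y.a + 2 * x.b * y.b, x.a * y.b + x.b * y.a⟩⟩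
instance : Neg K25 := ⟨fun x => ⟨-x.a, -x.b⟩⟩
instance : Inv K25 := ⟨fun x => ⟨x.a * (x.a * x.a - 2 * x.b * x.b) ^ 3, -x.b * (x.a * x.a - 2 * x.b * x.b) ^ 3⟩⟩

theorem k_add_a (x y : K25) : (x + y).a = x.a + y.a := rfl
theorem k_add_b (x y : K25) : (x + y).b = x.b + y.b := rfl
theorem k_mul_a (x y : K25) : (x * y).a = x.a * y.a + 2 * x.b * y.b := rfl
theorem k_mul_b (x y : K25) : (x * y).b = x.a * y.b + x.b * y.a := rfl
theorem k_neg_a (x : K25) : (-x).a = -x.a := rfl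
theorem k_neg_b (x : K25) : (-x).b = -x.b := rfl
theorem k_zero_a : (0 : K25).a = 0 := rfl
theorem k_zero_b : (0 : K25).b = 0 := rfl
theorem k_one_a : (1 : K25).a = 1 := rfl
theorem k_one_b : (1 : K25).b = 0 := rfl

/-- Equality is checked on components. -/
local macro "k_ring" : tactic => `(tactic|
  (intros; apply K25.ext <;>
    simp only [k_add_a, k_add_b, k_mul_a, k_mul_b, k_neg_a, k_neg_b, k_zero_a, k_zero_b, k_one_a, k_one_b] <;> ring))

theorem k_inv : ∀ x : K25, x ≠ 0 → x * x⁻¹ = 1 := by decide +kernel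

instance instFieldK25 : Field K25 where
  add_assoc := by k_ring
  zero_add := by k_ring
  add_zero := by k_ring
  add_comm := by k_ring
  mul_assoc := by k_ring
  one_mul := by k_ring
  mul_one := by k_ring
  zero_mul := by k_ring
  mul_zero := by k_ring
  neg_add_cancel := by k_ring
  left_distrib := by k_ring
  right_distrib := by k_ring
  mul_comm := by k_ring
  nsmul := nsmulRec
  zsmul := zsmulRec
  exists_pair_ne := ⟨0, 1, by decide +kernel⟩
  mul_inv_cancel := k_inv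
  inv_zero := by decide +kernel
  nnqsmul := _
  qsmul := _

theorem card_K25 : Fintype.card K25 = 25 := rfl

theorem pow_five : ∀ x : K25, x ^ 5 = ⟨x.a, -x.b⟩ := by decide +kernel

theorem mod_add_div (x y : ℕ) : (x % 5 + 5 * y) / 5 = y := by omega

theorem cast_mod_add (x y : ℕ) : ((x % 5 + 5 * y : ℕ) : ZMod 5) = (x : ZMod 5) := by
  rw [Nat.cast_add, ZMod.natCast_mod, Nat.cast_mul, show ((5 : ℕ) : ZMod 5) = 0 from rfl, zero_mul, add_zero]

theorem ofN_zero : ofN 0 = 0 := rfl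

theorem ofN_one : ofN 1 = 1 := rfl

theorem ofN_add (m n : ℕ) : ofN (addK m n) = ofN m + ofN n := by
  refine K25.ext ?_ ?_
  · show ((addK m n : ℕ) : ZMod 5) = _
    rw [addK, cast_mod_add, Nat.cast_add]; rfl
  · show (((addK m n) / 5 : ℕ) : ZMod 5) = _
    rw [addK, mod_add_div, ZMod.natCast_mod, Nat.cast_add]; rfl

theorem ofN_mul (m n : ℕ) : ofN (mulK m n) = ofN m * ofN n := by
  refine K25.ext ?_ ?_
  · show ((mulK m n : ℕ) : ZMod 5) = _
    rw [mulK, cast_mod_add, Nat.cast_add, Nat.cast_mul, Nat.cast_mul, Nat.cast_mul, k_mul_a]; rfl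
  · show (((mulK m n) / 5 : ℕ) : ZMod 5) = _
    rw [mulK, mod_add_div, ZMod.natCast_mod, Nat.cast_add, Nat.cast_mul, Nat.cast_mul, k_mul_b]; rfl

theorem ofN_sig (n : ℕ) : ofN (sigK n) = ofN n ^ 5 := by
  rw [pow_five]
  refine K25.ext ?_ ?_
  · show ((sigK n : ℕ) : ZMod 5) = _
    rw [sigK, cast_mod_add]; rfl
  · show (((sigK n) / 5 : ℕ) : ZMod 5) = -((n / 5 : ℕ) : ZMod 5)
    rw [sigK, mod_add_div, ZMod.natCast_mod, Nat.cast_mul, show ((4 : ℕ) : ZMod 5) = -1 from rfl]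
    ring

/-- The pattern of an element. -/
def enc (x : K25) : ℕ := x.a.val + 5 * x.b.val

theorem ofN_enc : ∀ x : K25, ofN (enc x) = x ∧ enc x < 25 := by decide +kernel

theorem enc_ofN : ∀ m : Fin 25, enc (ofN m) = m := by decide +kernel

theorem ofN_lt {m n : ℕ} (hm : m < 25) (hn : n < 25) (h : ofN m = ofN n) : m = n := by
  have h1 := enc_ofN ⟨m, hm⟩
  have h2 := enc_ofN ⟨n, hn⟩
  simp only at h1 h2
  rw [← h1, ← h2, h]

end Cfsg.Agent.U35
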