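import Cfsg.Agent.Lib.U35.Data

/-!
# Vectors over twenty-five elements as numerals
-/

set_option autoImplicit false

namespace Cfsg.Agent.U35

/-- The code of three patterns. -/
def pack (a b c : ℕ) : ℕ := a + 25 * b + 625 * c

/-- The patterns of a code. -/
def c0 (n : ℕ) : ℕ := n % 25
@[inherit_doc c0] def c1 (n : ℕ) : ℕ := n / 25 % 25
@[inherit_doc c0] def c2 (n : ℕ) : ℕ := n / 625 % 25

/-- The vector of a code. -/
def ev (n : ℕ) : Fin 3 → K25 := ![ofN (c0 n), ofN (c1 n), ofN (c2 n)]

/-- The Hermitian form on codes. -/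
def hermN (u v : ℕ) : ℕ :=
  addK (addK (mulK (c0 u) (sigK (c0 v))) (mulK (c1 u) (sigK (c1 v)))) (mulK (c2 u) (sigK (c2 v)))

/-- A scalar multiple. -/
def smulN (s v : ℕ) : ℕ := pack (mulK s (c0 v)) (mulK s (c1 v)) (mulK s (c2 v))

/-- A sum. -/
def addN (u v : ℕ) : ℕ := pack (addK (c0 u) (c0 v)) (addK (c1 u) (c1 v)) (addK (c2 u) (c2 v))

/-- The inverse of a pattern, by the twenty-third power. -/
def invK (a : ℕ) : ℕ :=
  let a2 := mulK a a; let a4 := mulK a2 a2; let a8 := mulK a4 a4; let a16 := mulK a8 a8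
  mulK a16 (mulK a4 (mulK a2 a))

/-- The factor making the leading pattern one. -/
def scale (n : ℕ) : ℕ := invK (if c0 n ≠ 0 then c0 n else if c1 n ≠ 0 then c1 n else c2 n)

/-- The normalised code of a point. -/
def normN (n : ℕ) : ℕ := smulN (scale n) n

/-- The axis of a transvection. -/
def axis (j : ℕ) : ℕ := axL.getD j 0

/-- The `j`-th transvection on codes; `5` codes `√2`. -/
def appT (j u : ℕ) : ℕ := addN u (smulN (mulK 5 (hermN u (axis j))) (axis j))

theorem addK_lt (m n : ℕ) : addK m n < 25 := by unfold addK; omega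

theorem mulK_lt (m n : ℕ) : mulK m n < 25 := by unfold mulK; omega

theorem ev_pack {a b c : ℕ} (ha : a < 25) (hb : b < 25) (hc : c < 25) :
    ev (pack a b c) = ![ofN a, ofN b, ofN c] := by
  have h0 : c0 (pack a b c) = a := by unfold c0 pack; omega
  have h1 : c1 (pack a b c) = b := by unfold c1 pack; omega
  have h2 : c2 (pack a b c) = c := by unfold c2 pack; omega
  rw [ev, h0, h1, h2]

theorem ev_smulN (s v : ℕ) : ev (smulN s v) = ofN s • ev v := by
  rw [smulN, ev_pack (mulK_lt _ _) (mulK_lt _ _) (mulK_lt _ _), ofN_mul, ofN_mul, ofN_mul]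
  funext i
  fin_cases i <;> rfl

theorem ev_addN (u v : ℕ) : ev (addN u v) = ev u + ev v := by
  rw [addN, ev_pack (addK_lt _ _) (addK_lt _ _) (addK_lt _ _), ofN_add, ofN_add, ofN_add]
  funext i
  fin_cases i <;> rfl

theorem ev_zero : ev 0 = 0 := by
  funext i
  fin_cases i <;> rfl

theorem exists_code (v : Fin 3 → K25) : ∃ n < 15625, ev n = v := by
  refine ⟨pack (enc (v 0)) (enc (v 1)) (enc (v 2)), ?_, ?_⟩
  · have h0 := (ofN_enc (v 0)).2
    have h1 := (ofN_enc (v 1)).2
    have h2 := (ofN_enc (v 2)).2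
    unfold pack
    omega
  · rw [ev_pack (ofN_enc _).2 (ofN_enc _).2 (ofN_enc _).2]
    funext i
    fin_cases i <;> simp [(ofN_enc _).1]

theorem ev_inj {m n : ℕ} (hm : m < 15625) (hn : n < 15625) (h : ev m = ev n) : m = n := by
  have h0 := ofN_lt (Nat.mod_lt _ (by omega)) (Nat.mod_lt _ (by omega)) (congrFun h 0)
  have h1 := ofN_lt (Nat.mod_lt _ (by omega)) (Nat.mod_lt _ (by omega)) (congrFun h 1)
  have h2 := ofN_lt (Nat.mod_lt _ (by omega)) (Nat.mod_lt _ (by omega)) (congrFun h 2)
  omega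

/-- The image of a set of bits, starting from bit `k`. -/
def imgM (m : ℕ) : ℕ → List (ℕ × ℕ) → ℕ
  | _, [] => 0
  | k, p :: t => (if m.testBit k then 2 ^ p.1 else 0) ||| imgM m (k + 1) t

theorem testBit_imgM (m l : ℕ) : ∀ (L : List (ℕ × ℕ)) (k : ℕ),
    (imgM m k L).testBit l = true ↔
      ∃ i < L.length, m.testBit (k + i) = true ∧ (L.getD i (0, 0)).1 = l
  | [], k => by simp [imgM]
  | p :: t, k => by
    rw [imgM, Nat.testBit_or, Bool.or_eq_true, testBit_imgM m l t (k + 1)]
    constructor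
    · rintro (h | ⟨i, hi, h1, h2⟩)
      · split_ifs at h with hk
        · rw [Nat.testBit_two_pow] at h
          exact ⟨0, by simp, hk, by simpa using h⟩
        · simp at h
      · refine ⟨i + 1, by simpa using hi, ?_, by simpa using h2⟩
        rwa [show k + (i + 1) = k + 1 + i by omega]
    · rintro ⟨i, hi, h1, h2⟩
      rcases i with _ | i
      · left
        rw [if_pos (by simpa using h1), Nat.testBit_two_pow]
        simpa using h2
      · exact Or.inr ⟨i, by simpa using hi, by rwa [show k + 1 + i = k + (i + 1) by omega],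
          by simpa using h2⟩

end Cfsg.Agent.U35
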